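import Cfsg.Agent.H226.Tall.Gen
import Cfsg.Agent.ClassicalGeometry.SympBasic
import Cfsg.Agent.LieClassical.SympCenter
import Cfsg.Agent.H80.HermTwo
import Cfsg.Agent.LieClassical.SUBasic
import Cfsg.Agent.S2165
import Cfsg.Agent.H14.DP.Orth
import Cfsg.Agent.S0289
import Cfsg.Agent.S0290

/-!
# S2927, RowTwo of the classical groups in characteristic 2 (helper14)

No centralizer of an involution (of a 2-central involution, for the orthogonal groups) of `PSL_n(F)`, `n ≥ 4`,
`PSp_{2m}(F)`, `m ≥ 3`, `PSU_n`, `n ≥ 4`, `POmega^±_{2m}(F)`, `m ≥ 4` in characteristic 2 is a 2-group: it contains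
two involutions which generate `S_3`.
-/

set_option autoImplicit false
set_option linter.unusedSectionVars false
set_option linter.unusedSimpArgs false
set_option linter.unusedVariables false

namespace Cfsg.Agent.H14.Tall

section lin

open Module Subgroup

theorem braid_ring {R : Type*} [Ring R] (h2 : (2 : R) = 0) {M M' : R} (h1 : M * M = 0) (h1' : M' * M' = 0)
    (h : M * M' * M = M) (h' : M' * M * M' = M') :
    (1 + M) * (1 + M') * (1 + M) = (1 + M') * (1 + M) * (1 + M') := by
  have e1 : (1 + M) * (1 + M') * (1 + M) = 1 + (2 * M + M') + M * M + M * M' + M' * M + M * M' * M := by noncomm_ring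
  have e2 : (1 + M') * (1 + M) * (1 + M') = 1 + (2 * M' + M) + M' * M' + M' * M + M * M' + M' * M * M' := by
    noncomm_ring
  rw [e1, e2, h1, h1', h, h', h2]
  simp only [zero_mul, zero_add, add_zero]
  abel

theorem sq_ring {R : Type*} [Ring R] (h2 : (2 : R) = 0) {M : R} (h1 : M * M = 0) : (1 + M) * (1 + M) = 1 := by
  have e1 : (1 + M) * (1 + M) = 1 + 2 * M + M * M := by noncomm_ring
  rw [e1, h1, h2, zero_mul, add_zero, add_zero]

theorem sub_sq_ring {R : Type*} [Ring R] (h2 : (2 : R) = 0) {Z : R} (hZ : Z * Z = 1) : (Z - 1) * (Z - 1) = 0 := by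
  have e1 : (Z - 1) * (Z - 1) = Z * Z - 2 * Z + 1 := by noncomm_ring
  rw [e1, hZ, h2, zero_mul, sub_zero, one_add_one_eq_two, h2]

theorem comm_ring' {R : Type*} [Ring R] {M N : R} (h : M * N = N * M) : (1 + M) * (1 + N) = (1 + N) * (1 + M) := by
  have e1 : (1 + M) * (1 + N) = 1 + M + N + M * N := by noncomm_ring
  have e2 : (1 + N) * (1 + M) = 1 + M + N + N * M := by noncomm_ring
  rw [e1, e2, h]

section grp

variable {G : Type*} [Group G]

/-- a pair of involutions in `C(A)` generating `S_3` -/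
def Pair (A : G) : Prop :=
  ∃ a b : G, a * A = A * a ∧ b * A = A * b ∧ a * a = 1 ∧ b * b = 1 ∧ a * b * a = b * a * b ∧ a ≠ b

theorem not_isPGroup_of_odd {A c : G} {k : ℕ} (hk : Odd k) (hc : c * A = A * c) (hck : c ^ k = 1)
    (hcZ : c ∉ center G) : ¬ IsPGroup 2 ↥(centralizer ({(QuotientGroup.mk A : G ⧸ center G)} : Set (G ⧸ center G))) := by
  intro hP
  apply hcZ
  rw [← QuotientGroup.eq_one_iff]
  have hm : (QuotientGroup.mk c : G ⧸ center G) ∈ centralizer ({(QuotientGroup.mk A : G ⧸ center G)} : Set (G ⧸ center G)) := by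
    rw [mem_centralizer_singleton_iff]
    change (QuotientGroup.mk (c * A) : G ⧸ center G) = QuotientGroup.mk (A * c)
    rw [hc]
  obtain ⟨j, hj⟩ := hP ⟨_, hm⟩
  have h1 : (QuotientGroup.mk c : G ⧸ center G) ^ 2 ^ j = 1 := congrArg Subtype.val hj
  have h2 : (QuotientGroup.mk c : G ⧸ center G) ^ k = 1 := by
    change (QuotientGroup.mk (c ^ k) : G ⧸ center G) = 1
    rw [hck]
    rfl
  have h3 : orderOf (QuotientGroup.mk c : G ⧸ center G) ∣ 1 := by
    have h4 : Nat.Coprime (2 ^ j) k := Nat.Coprime.pow_left _ (Nat.coprime_two_left.2 hk)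
    rw [← h4]
    exact Nat.dvd_gcd (orderOf_dvd_of_pow_eq_one h1) (orderOf_dvd_of_pow_eq_one h2)
  exact orderOf_eq_one_iff.1 (Nat.dvd_one.1 h3)

theorem Pair.not_isPGroup {A : G} (h : Pair A) :
    ¬ IsPGroup 2 ↥(centralizer ({(QuotientGroup.mk A : G ⧸ center G)} : Set (G ⧸ center G))) := by
  obtain ⟨a, b, ha, hb, ha2, hb2, hab, hne⟩ := h
  refine not_isPGroup_of_odd (c := a * b) (k := 3) (by decide) ?_ ?_ ?_
  · rw [mul_assoc, hb, ← mul_assoc, ha, mul_assoc]
  · have e : (a * b) ^ 3 = (a * b * a) * (b * a * b) := by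
      simp only [pow_succ, pow_zero, one_mul, mul_assoc]
    rw [e, hab]
    have e2 : b * a * b * (b * a * b) = b * a * (b * b) * a * b := by group
    rw [e2, hb2, mul_one]
    have e3 : b * a * a * b = b * (a * a) * b := by group
    rw [e3, ha2, mul_one, hb2]
  · intro hc
    apply hne
    have h1 : a * b * a = b := by
      have h2 := mem_center_iff.1 hc a
      rw [← h2, ← mul_assoc, ha2, one_mul]
    rw [h1] at hab
    have h3 : a * b = 1 := by
      have h4 : b * (a * b) = b * 1 := by rw [← mul_assoc, ← hab, mul_one]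
      exact mul_left_cancel h4
    have h5 : a * b = a * a := by rw [h3, ha2]
    exact (mul_left_cancel h5).symm

/-- lifting an involution -/
theorem exists_lift_two [Finite G] (hZ : ∀ s ∈ center G, s * s = 1 → s = 1) {z : G ⧸ center G} (hz : z * z = 1) :
    ∃ A : G, A * A = 1 ∧ (QuotientGroup.mk A : G ⧸ center G) = z := by
  obtain ⟨B, rfl⟩ := QuotientGroup.mk_surjective z
  have hodd : Odd (Nat.card (center G)) := by
    rw [← Nat.not_even_iff_odd, even_iff_two_dvd]
    intro h
    obtain ⟨⟨s, hs⟩, ho⟩ := exists_prime_orderOf_dvd_card' 2 h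
    rw [Subgroup.orderOf_mk] at ho
    have h1 : s * s = 1 := by rw [← pow_two, ← ho, pow_orderOf_eq_one]
    rw [hZ s hs h1, orderOf_one] at ho
    omega
  have hB : B * B ∈ center G := by
    rw [← QuotientGroup.eq_one_iff]
    exact hz
  obtain ⟨i, hi⟩ := hodd
  have h1 : (B * B) ^ Nat.card (center G) = 1 := by
    have h2 : (⟨B * B, hB⟩ : center G) ^ Nat.card (center G) = 1 := pow_card_eq_one'
    exact congrArg Subtype.val h2
  refine ⟨B ^ Nat.card (center G), ?_, ?_⟩
  · rw [← h1, ← pow_add, ← two_mul, pow_mul, pow_two]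
  · have h3 : (QuotientGroup.mk (B ^ Nat.card (center G)) : G ⧸ center G) =
        (QuotientGroup.mk B : G ⧸ center G) ^ Nat.card (center G) := rfl
    rw [h3, hi, pow_succ, pow_mul, pow_two, hz, one_pow, one_mul]

end grp

/-! ### linear algebra -/

section lin

variable {F V : Type*} [Field F] [AddCommGroup V] [Module F V]

/-- the data: `M, M'` with `M² = M'² = 0`, `M M' M = M`, `M' M M' = M'`, commuting with `N` -/
structure PairN (N M M' : Module.End F V) : Prop where
  sq : M * M = 0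
  sq' : M' * M' = 0
  br : M * M' * M = M
  br' : M' * M * M' = M'
  comm : M * N = N * M
  comm' : M' * N = N * M'
  ne : M ≠ 0

/-- the first type -/
def tA (x : V) (φ : V →ₗ[F] F) : Module.End F V := φ.smulRight x

theorem tA_apply (x : V) (φ : V →ₗ[F] F) (v : V) : tA x φ v = φ v • x := rfl

theorem pairN_A {N : Module.End F V} {x y : V} {φ ψ : V →ₗ[F] F} (hx : N x = 0) (hy : N y = 0)
    (hφ : ∀ v, φ (N v) = 0) (hψ : ∀ v, ψ (N v) = 0) (h1 : φ x = 0) (h2 : φ y = 1) (h3 : ψ y = 0) (h4 : ψ x = 1) :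
    PairN N (tA x φ) (tA y ψ) where
  sq := by ext v; simp [tA_apply, h1]
  sq' := by ext v; simp [tA_apply, h3]
  br := by ext v; simp [tA_apply, h2, h4]
  br' := by ext v; simp [tA_apply, h2, h4]
  comm := by ext v; simp [tA_apply, hx, hφ]
  comm' := by ext v; simp [tA_apply, hy, hψ]
  ne := by
    intro h
    have h5 := LinearMap.congr_fun h y
    rw [tA_apply, h2, one_smul] at h5
    change x = 0 at h5
    rw [h5, map_zero] at h4
    exact zero_ne_one h4

/-- the second type -/
def tB (N : Module.End F V) (e : V) (φ : V →ₗ[F] F) : Module.End F V :=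
  (φ.comp N).smulRight e + φ.smulRight (N e)

theorem tB_apply (N : Module.End F V) (e : V) (φ : V →ₗ[F] F) (v : V) : tB N e φ v = φ (N v) • e + φ v • N e := rfl

theorem pairN_B {N : Module.End F V} (hN : ∀ v, N (N v) = 0) {e f : V} {φ ψ : V →ₗ[F] F} (a1 : φ e = 0) (a2 : φ f = 0)
    (a3 : φ (N e) = 0) (a4 : φ (N f) = 1) (b1 : ψ e = 0) (b2 : ψ f = 0) (b3 : ψ (N f) = 0) (b4 : ψ (N e) = 1) :
    PairN N (tB N e φ) (tB N f ψ) where
  sq := by ext v; simp [tB_apply, hN, a1, a3]
  sq' := by ext v; simp [tB_apply, hN, b2, b3]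
  br := by ext v; simp [tB_apply, hN, a1, a2, a3, a4, b1, b2, b3, b4]
  br' := by ext v; simp [tB_apply, hN, a1, a2, a3, a4, b1, b2, b3, b4]
  comm := by ext v; simp [tB_apply, hN]
  comm' := by ext v; simp [tB_apply, hN]
  ne := by
    intro h
    have h5 := LinearMap.congr_fun h f
    rw [tB_apply, a4, a2, one_smul, zero_smul, add_zero] at h5
    change e = 0 at h5
    rw [h5, map_zero, map_zero] at b4
    exact zero_ne_one b4

theorem exists_fun {c : Submodule F V} {v : V} (hv : v ∉ c) : ∃ φ : V →ₗ[F] F, φ v = 1 ∧ ∀ w ∈ c, φ w = 0 := by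
  obtain ⟨f, hf, hf'⟩ := Submodule.exists_le_ker_of_notMem hv
  refine ⟨(f v)⁻¹ • f, ?_, fun w hw => ?_⟩
  · rw [LinearMap.smul_apply, smul_eq_mul, inv_mul_cancel₀ hf]
  · rw [LinearMap.smul_apply, hf' hw, smul_zero]

theorem notMem_swap {c : Submodule F V} {x y : V} (hx : x ∉ c) (hy : y ∉ c ⊔ Submodule.span F {x}) :
    x ∉ c ⊔ Submodule.span F {y} := by
  intro h
  obtain ⟨a, ha, b, hb, hab⟩ := Submodule.mem_sup.1 h
  obtain ⟨d, rfl⟩ := Submodule.mem_span_singleton.1 hb
  by_cases hd : d = 0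
  · rw [hd, zero_smul, add_zero] at hab
    exact hx (hab ▸ ha)
  · apply hy
    have h1 : y = -(d⁻¹ • a) + d⁻¹ • x := by
      rw [← hab, smul_add, smul_smul, inv_mul_cancel₀ hd, one_smul]
      abel
    rw [h1]
    exact add_mem (neg_mem (Submodule.smul_mem _ _ (Submodule.mem_sup_left ha)))
      (Submodule.smul_mem _ _ (Submodule.mem_sup_right (Submodule.mem_span_singleton_self x)))

/-- **The linear group.** -/
theorem exists_pairN [FiniteDimensional F V] (h4 : 4 ≤ finrank F V) {N : Module.End F V} (hN : ∀ v, N (N v) = 0) :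
    ∃ M M' : Module.End F V, PairN N M M' := by
  have hrk := LinearMap.finrank_range_add_finrank_ker N
  by_cases hr : 2 ≤ finrank F (LinearMap.range N)
  · -- second type
    obtain ⟨u₁, hu₁, hu₁0⟩ : ∃ u ∈ LinearMap.range N, u ≠ 0 := by
      have : Nontrivial (LinearMap.range N) := Module.nontrivial_of_finrank_pos (R := F) (by omega)
      obtain ⟨x, hx⟩ := exists_ne (0 : LinearMap.range N)
      exact ⟨x, x.2, fun h => hx (Subtype.ext h)⟩
    obtain ⟨u₂, hu₂, hu₂'⟩ : ∃ u ∈ LinearMap.range N, u ∉ Submodule.span F {u₁} := by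
      by_contra hcon
      push Not at hcon
      have h1 := Submodule.finrank_mono (show LinearMap.range N ≤ Submodule.span F {u₁} from hcon)
      rw [finrank_span_singleton hu₁0] at h1
      omega
    obtain ⟨e, rfl⟩ := hu₁
    obtain ⟨f, rfl⟩ := hu₂
    have key : ∀ {e f : V}, N e ≠ 0 → N f ∉ Submodule.span F {N e} →
        ∃ φ : V →ₗ[F] F, φ e = 0 ∧ φ f = 0 ∧ φ (N e) = 0 ∧ φ (N f) = 1 := by
      intro e f he hf
      have h1 : N f ∉ Submodule.span F {e} ⊔ Submodule.span F {f} ⊔ Submodule.span F {N e} := by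
        intro h
        obtain ⟨z, hz, b, hb, hab⟩ := Submodule.mem_sup.1 h
        obtain ⟨a, ha, c, hc, rfl⟩ := Submodule.mem_sup.1 hz
        obtain ⟨α, rfl⟩ := Submodule.mem_span_singleton.1 ha
        obtain ⟨β, rfl⟩ := Submodule.mem_span_singleton.1 hc
        obtain ⟨γ, rfl⟩ := Submodule.mem_span_singleton.1 hb
        have h2 : α • N e + β • N f = 0 := by
          have h3 := congrArg N hab
          rw [map_add, map_add, map_smul, map_smul, map_smul, hN, hN, smul_zero, add_zero] at h3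
          exact h3
        by_cases hβ : β = 0
        · rw [hβ, zero_smul, add_zero] at h2
          have hα : α = 0 := (smul_eq_zero.1 h2).resolve_right he
          apply hf
          rw [← hab, hα, hβ, zero_smul, zero_smul, zero_add, zero_add]
          exact Submodule.smul_mem _ _ (Submodule.mem_span_singleton_self _)
        · apply hf
          rw [Submodule.mem_span_singleton]
          refine ⟨-(β⁻¹ * α), ?_⟩
          have h3 : β • N f = -(α • N e) := by
            rw [eq_neg_iff_add_eq_zero, add_comm]; exact h2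
          have h4 : N f = β⁻¹ • β • N f := by rw [smul_smul, inv_mul_cancel₀ hβ, one_smul]
          rw [h4, h3, smul_neg, smul_smul, neg_smul]
      obtain ⟨φ, h2, h3⟩ := exists_fun h1
      refine ⟨φ, h3 _ ?_, h3 _ ?_, h3 _ ?_, h2⟩
      · exact Submodule.mem_sup_left (Submodule.mem_sup_left (Submodule.mem_span_singleton_self _))
      · exact Submodule.mem_sup_left (Submodule.mem_sup_right (Submodule.mem_span_singleton_self _))
      · exact Submodule.mem_sup_right (Submodule.mem_span_singleton_self _)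
    have hf0 : N f ≠ 0 := fun h => hu₂' (h ▸ zero_mem _)
    have hef : N e ∉ Submodule.span F {N f} := by
      have h1 : N e ∉ (⊥ : Submodule F V) := by rwa [Submodule.mem_bot]
      have h2 := notMem_swap h1 (y := N f) (by rwa [bot_sup_eq])
      rwa [bot_sup_eq] at h2
    obtain ⟨φ, a1, a2, a3, a4⟩ := key hu₁0 hu₂'
    obtain ⟨ψ, b1, b2, b3, b4⟩ := key hf0 hef
    exact ⟨_, _, pairN_B hN a1 a2 a3 a4 b2 b1 b3 b4⟩
  · obtain ⟨x, hx, hxr⟩ : ∃ x ∈ LinearMap.ker N, x ∉ LinearMap.range N := by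
      by_contra hcon
      push Not at hcon
      have h1 := Submodule.finrank_mono (show LinearMap.ker N ≤ LinearMap.range N from hcon)
      omega
    obtain ⟨y, hy, hyr⟩ : ∃ y ∈ LinearMap.ker N, y ∉ LinearMap.range N ⊔ Submodule.span F {x} := by
      by_contra hcon
      push Not at hcon
      have h1 := Submodule.finrank_mono (show LinearMap.ker N ≤ LinearMap.range N ⊔ Submodule.span F {x} from hcon)
      have h2 := Submodule.finrank_add_le_finrank_add_finrank (LinearMap.range N) (Submodule.span F {x})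
      have h3 : finrank F (Submodule.span F {x}) ≤ 1 := by
        simpa using finrank_span_le_card (R := F) ({x} : Set V)
      omega
    obtain ⟨φ, a1, a2⟩ := exists_fun hyr
    obtain ⟨ψ, b1, b2⟩ := exists_fun (notMem_swap hxr hyr)
    exact ⟨_, _, pairN_A (LinearMap.mem_ker.1 hx) (LinearMap.mem_ker.1 hy)
      (fun v => a2 _ (Submodule.mem_sup_left ⟨v, rfl⟩)) (fun v => b2 _ (Submodule.mem_sup_left ⟨v, rfl⟩))
      (a2 _ (Submodule.mem_sup_right (Submodule.mem_span_singleton_self _))) a1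
      (b2 _ (Submodule.mem_sup_right (Submodule.mem_span_singleton_self _))) b1⟩

end lin

/-! ### the special linear group -/

section SL

variable {F : Type*} [Field F] {n : ℕ}

open Matrix

theorem two_end (h2 : (2 : F) = 0) {V : Type*} [AddCommGroup V] [Module F V] : (2 : Module.End F V) = 0 := by
  rw [← one_add_one_eq_two]
  ext v
  change v + v = 0
  rw [← two_smul F v, h2, zero_smul]

/-- the unipotent element `1 + M` -/
noncomputable def slOf (h2 : (2 : F) = 0) {M : Module.End F (Fin n → F)} (hM : M * M = 0) :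
    SpecialLinearGroup (Fin n) F :=
  ⟨LinearMap.toMatrix' (1 + M), by
    have h1 : LinearMap.toMatrix' (1 + M) * LinearMap.toMatrix' (1 + M) = 1 := by
      rw [← LinearMap.toMatrix'_mul, sq_ring (two_end h2) hM, LinearMap.toMatrix'_one]
    have h3 : (LinearMap.toMatrix' (1 + M)).det * (LinearMap.toMatrix' (1 + M)).det = 1 := by
      rw [← det_mul, h1, det_one]
    have h4 : ((LinearMap.toMatrix' (1 + M)).det - 1) * ((LinearMap.toMatrix' (1 + M)).det - 1) = 0 := by
      linear_combination h3 + (1 - (LinearMap.toMatrix' (1 + M)).det) * h2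
    rcases mul_eq_zero.1 h4 with h5 | h5 <;> exact sub_eq_zero.1 h5⟩

theorem slOf_coe (h2 : (2 : F) = 0) {M : Module.End F (Fin n → F)} (hM : M * M = 0) :
    ((slOf h2 hM : SpecialLinearGroup (Fin n) F) : Matrix (Fin n) (Fin n) F) = LinearMap.toMatrix' (1 + M) := rfl

theorem pair_SL (h2 : (2 : F) = 0) (hn : 4 ≤ n) {A : SpecialLinearGroup (Fin n) F} (hA : A * A = 1) : Pair A := by
  obtain ⟨Z, hZ⟩ : ∃ Z : Module.End F (Fin n → F), Z = toLin' (A : Matrix (Fin n) (Fin n) F) := ⟨_, rfl⟩
  obtain ⟨N, hN⟩ : ∃ N : Module.End F (Fin n → F), N = Z - 1 := ⟨_, rfl⟩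
  have hz : Z * Z = 1 := by
    rw [hZ, Module.End.mul_eq_comp, ← toLin'_mul]
    have : (A : Matrix (Fin n) (Fin n) F) * (A : Matrix (Fin n) (Fin n) F) = 1 := congrArg Subtype.val hA
    rw [this, toLin'_one]
    rfl
  have hNN : N * N = 0 := by rw [hN]; exact sub_sq_ring (two_end h2) hz
  obtain ⟨M, M', h⟩ := exists_pairN (F := F) (V := Fin n → F) (by simpa using hn) (N := N)
    (fun v => LinearMap.congr_fun hNN v)
  have hAN : (A : Matrix (Fin n) (Fin n) F) = LinearMap.toMatrix' (1 + N) := by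
    rw [hN, add_sub_cancel, hZ, LinearMap.toMatrix'_toLin']
  refine ⟨slOf h2 h.sq, slOf h2 h.sq', ?_, ?_, ?_, ?_, ?_, ?_⟩
  · apply Subtype.ext
    change LinearMap.toMatrix' (1 + M) * (A : Matrix (Fin n) (Fin n) F) =
      (A : Matrix (Fin n) (Fin n) F) * LinearMap.toMatrix' (1 + M)
    rw [hAN, ← LinearMap.toMatrix'_mul, ← LinearMap.toMatrix'_mul]
    rw [comm_ring' h.comm]
  · apply Subtype.ext
    change LinearMap.toMatrix' (1 + M') * (A : Matrix (Fin n) (Fin n) F) =
      (A : Matrix (Fin n) (Fin n) F) * LinearMap.toMatrix' (1 + M')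
    rw [hAN, ← LinearMap.toMatrix'_mul, ← LinearMap.toMatrix'_mul]
    rw [comm_ring' h.comm']
  · apply Subtype.ext
    change LinearMap.toMatrix' (1 + M) * LinearMap.toMatrix' (1 + M) = 1
    rw [← LinearMap.toMatrix'_mul, sq_ring (two_end h2) h.sq, LinearMap.toMatrix'_one]
  · apply Subtype.ext
    change LinearMap.toMatrix' (1 + M') * LinearMap.toMatrix' (1 + M') = 1
    rw [← LinearMap.toMatrix'_mul, sq_ring (two_end h2) h.sq', LinearMap.toMatrix'_one]
  · apply Subtype.ext
    change LinearMap.toMatrix' (1 + M) * LinearMap.toMatrix' (1 + M') * LinearMap.toMatrix' (1 + M) =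
      LinearMap.toMatrix' (1 + M') * LinearMap.toMatrix' (1 + M) * LinearMap.toMatrix' (1 + M')
    rw [← LinearMap.toMatrix'_mul, ← LinearMap.toMatrix'_mul, ← LinearMap.toMatrix'_mul, ← LinearMap.toMatrix'_mul,
      braid_ring (two_end h2) h.sq h.sq' h.br h.br']
  · intro he
    have h3 : LinearMap.toMatrix' (1 + M) = LinearMap.toMatrix' (1 + M') := congrArg Subtype.val he
    have h5 : M = M' := add_left_cancel (LinearMap.toMatrix'.injective h3)
    apply h.ne
    rw [← h.br, ← h5, h.sq, zero_mul]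

theorem not_isPGroup_PSL [Finite F] (h2 : (2 : F) = 0) (hn : 4 ≤ n) {z : Matrix.ProjectiveSpecialLinearGroup (Fin n) F}
    (hz : z * z = 1) : ¬ IsPGroup 2 ↥(centralizer ({z} : Set (Matrix.ProjectiveSpecialLinearGroup (Fin n) F))) := by
  obtain ⟨A, hA, rfl⟩ := exists_lift_two (G := SpecialLinearGroup (Fin n) F) (fun s hs hss => by
    obtain ⟨r, -, hr⟩ := Matrix.SpecialLinearGroup.mem_center_iff.1 hs
    have h3 : (s : Matrix (Fin n) (Fin n) F) * (s : Matrix (Fin n) (Fin n) F) = 1 := congrArg Subtype.val hss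
    rw [← hr, ← map_mul, ← map_one (Matrix.scalar (Fin n))] at h3
    have : Nonempty (Fin n) := ⟨⟨0, by omega⟩⟩
    have h4 : r * r = 1 := Matrix.scalar_inj.1 h3
    have h5 : (r - 1) * (r - 1) = 0 := by linear_combination h4 + (1 - r) * h2
    have h6 : r = 1 := by
      rcases mul_eq_zero.1 h5 with h7 | h7 <;> exact sub_eq_zero.1 h7
    apply Subtype.ext
    rw [← hr, h6, map_one]
    rfl) hz
  exact (pair_SL h2 hn hA).not_isPGroup

end SL

end lin

end Cfsg.Agent.H14.Tall

namespace Cfsg.Agent.H14.Tall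

section symp

open Module Subgroup Cfsg

section sp

variable {F V : Type*} [Field F] [AddCommGroup V] [Module F V]

/-- a self-adjoint `N` with `N² = 0` for an alternating form -/
structure SpN (B : LinearMap.BilinForm F V) (N : Module.End F V) : Prop where
  alt : ∀ v, B v v = 0
  sym : ∀ v w, B v w = B w v
  nd : ∀ v, (∀ w, B v w = 0) → v = 0
  sa : ∀ v w, B (N v) w = B v (N w)
  sq : ∀ v, N (N v) = 0

/-- `1 + M` is an isometry -/
def Iso' (B : LinearMap.BilinForm F V) (M : Module.End F V) : Prop :=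
  ∀ v w, B (M v) w + B v (M w) + B (M v) (M w) = 0

theorem iso_A (h2 : (2 : F) = 0) {B : LinearMap.BilinForm F V} {N : Module.End F V} (h : SpN B N) {x : V} :
    Iso' B (tA x (B x)) := by
  intro v w
  rw [tA_apply, tA_apply]
  simp only [map_smul, LinearMap.smul_apply, smul_eq_mul, h.alt, mul_zero, add_zero]
  rw [h.sym v x]
  linear_combination (B x v * B x w) * h2

theorem iso_B (h2 : (2 : F) = 0) {B : LinearMap.BilinForm F V} {N : Module.End F V} (h : SpN B N) {e : V}
    (he : B e (N e) = 0) : Iso' B (tB N e (B e)) := by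
  intro v w
  rw [tB_apply, tB_apply]
  simp only [map_smul, map_add, LinearMap.smul_apply, LinearMap.add_apply, smul_eq_mul, h.alt, mul_zero, add_zero, he,
    h.sym (N e) e, zero_add]
  rw [h.sym v e, h.sym v (N e), h.sa e w, h.sa e v]
  linear_combination (B e (N v) * B e w + B e v * B e (N w)) * h2

theorem exists_pairN_sp [Finite F] [FiniteDimensional F V] (h2 : (2 : F) = 0) {B : LinearMap.BilinForm F V}
    {N : Module.End F V} (h : SpN B N) (h6 : 6 ≤ finrank F V) :
    ∃ M M' : Module.End F V, PairN N M M' ∧ Iso' B M ∧ Iso' B M' := by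
  have hnd : B.Nondegenerate := by
    constructor
    · intro v hv
      exact h.nd v hv
    · intro v hv
      exact h.nd v fun w => by rw [h.sym]; exact hv w
  have hrk := LinearMap.finrank_range_add_finrank_ker N
  have hRK : LinearMap.range N ≤ LinearMap.ker N := by
    rintro _ ⟨v, rfl⟩
    exact h.sq v
  by_cases hKR : LinearMap.ker N ≤ LinearMap.range N
  · -- `R = K`
    have hKR' : LinearMap.range N = LinearMap.ker N := le_antisymm hRK hKR
    have hr : finrank F (LinearMap.range N) = finrank F (LinearMap.ker N) := by rw [hKR']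
    -- the quadric
    let D : Submodule F V :=
      { carrier := {v | B (N v) v = 0}
        add_mem' := by
          intro a b ha hb
          rw [Set.mem_ofPred_eq] at ha hb ⊢
          simp only [map_add, LinearMap.add_apply]
          rw [ha, hb, h.sa b a, h.sym b (N a)]
          linear_combination (B (N a) b) * h2
        zero_mem' := by
          rw [Set.mem_ofPred_eq, map_zero]
        smul_mem' := by
          intro c a ha
          rw [Set.mem_ofPred_eq] at ha ⊢
          rw [map_smul, map_smul, map_smul, LinearMap.smul_apply, ha, smul_zero, smul_zero] }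
    have hD : ∀ v, v ∈ D ↔ B (N v) v = 0 := fun _ => Iff.rfl
    have hDrk : finrank F V ≤ finrank F D + 1 := by
      by_cases hDtop : D = ⊤
      · rw [hDtop, finrank_top]; omega
      · obtain ⟨v₀, -, hv₀⟩ := SetLike.exists_of_lt (lt_top_iff_ne_top.2 hDtop)
        have h1 : (⊤ : Submodule F V) ≤ D ⊔ Submodule.span F {v₀} := by
          intro v _
          rw [hD] at hv₀
          have : ringChar F = 2 := by
            have h3 : ((2 : ℕ) : F) = 0 := by exact_mod_cast h2
            have h4 := ringChar.dvd h3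
            rcases (Nat.dvd_prime Nat.prime_two).1 h4 with h5 | h5
            · have h6 := (ringChar.spec F 1).2 (by rw [h5])
              rw [Nat.cast_one] at h6
              exact absurd h6 one_ne_zero
            · exact h5
          have hfin : Fintype F := Fintype.ofFinite F
          obtain ⟨c, hc⟩ := FiniteField.isSquare_of_char_two this (B (N v) v / B (N v₀) v₀)
          have h3 : B (N v) v = c * c * B (N v₀) v₀ := by
            rw [← hc, div_mul_cancel₀ _ hv₀]
          have h4 : v + c • v₀ ∈ D := by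
            rw [hD]
            simp only [map_add, LinearMap.add_apply, map_smul, LinearMap.smul_apply, smul_eq_mul]
            rw [h3, h.sa v₀ v, h.sym v₀ (N v)]
            linear_combination (c * c * B (N v₀) v₀ + c * B (N v) v₀) * h2
          have h5 : v = (v + c • v₀) + -(c • v₀) := by abel
          rw [h5]
          exact add_mem (Submodule.mem_sup_left h4)
            (neg_mem (Submodule.smul_mem _ _ (Submodule.mem_sup_right (Submodule.mem_span_singleton_self _))))
        have h3 := Submodule.finrank_mono h1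
        rw [finrank_top] at h3
        have h4 := Submodule.finrank_add_le_finrank_add_finrank D (Submodule.span F {v₀})
        have h5 : finrank F (Submodule.span F {v₀}) ≤ 1 := by
          simpa using finrank_span_le_card (R := F) ({v₀} : Set V)
        omega
    -- a hyperbolic pair in `D`
    obtain ⟨e, he, f, hf, hef⟩ : ∃ e ∈ D, ∃ f ∈ D, B (N e) f ≠ 0 := by
      by_contra hcon
      push Not at hcon
      have h1 : D.map N ≤ B.orthogonal D := by
        rintro _ ⟨e, he, rfl⟩ f hf
        change B f (N e) = 0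
        rw [h.sym]
        exact hcon e he f hf
      have h3 := Submodule.finrank_mono h1
      have h4 := LinearMap.BilinForm.finrank_orthogonal hnd D
      have h5 := LinearMap.finrank_range_add_finrank_ker (N.domRestrict D)
      rw [LinearMap.range_domRestrict] at h5
      have h7 : finrank F (LinearMap.ker (N.domRestrict D)) ≤ finrank F (LinearMap.ker N) := by
        rw [LinearEquiv.finrank_eq (Submodule.equivMapOfInjective D.subtype D.subtype_injective
          (LinearMap.ker (N.domRestrict D)))]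
        apply Submodule.finrank_mono
        rintro _ ⟨w, hw, rfl⟩
        exact hw
      omega
    rw [hD] at he hf
    obtain ⟨f', hf'⟩ : ∃ f', f' = (B (N e) f)⁻¹ • f := ⟨_, rfl⟩
    have hef' : B (N e) f' = 1 := by rw [hf', map_smul, smul_eq_mul, inv_mul_cancel₀ hef]
    have hff' : B (N f') f' = 0 := by
      rw [hf', map_smul, map_smul, map_smul, LinearMap.smul_apply, hf, smul_zero, smul_zero]
    obtain ⟨e', he'⟩ : ∃ e', e' = e + B e f' • N e := ⟨_, rfl⟩
    have hNe' : N e' = N e := by rw [he', map_add, map_smul, h.sq, smul_zero, add_zero]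
    have c1 : B e' f' = 0 := by
      rw [he', map_add, map_smul, LinearMap.add_apply, LinearMap.smul_apply, hef', smul_eq_mul]
      linear_combination (B e f') * h2
    have c2 : B e' (N e') = 0 := by
      rw [hNe', he', map_add, map_smul, LinearMap.add_apply, LinearMap.smul_apply, h.alt, h.sym e (N e), he, smul_zero,
        add_zero]
    have c3 : B (N e') f' = 1 := by rw [hNe', hef']
    have c4 : B f' (N f') = 0 := by rw [h.sym]; exact hff'
    refine ⟨tB N e' (B e'), tB N f' (B f'), pairN_B h.sq (h.alt _) c1 c2 ?_ ?_ (h.alt _) c4 ?_, iso_B h2 h c2,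
      iso_B h2 h c4⟩
    · rw [← h.sa]; exact c3
    · rw [h.sym]; exact c1
    · rw [h.sym]; exact c3
  · obtain ⟨x, hx, hxR⟩ := SetLike.not_le_iff_exists.1 hKR
    obtain ⟨y, hy, hxy⟩ : ∃ y ∈ LinearMap.ker N, B x y ≠ 0 := by
      by_contra hcon
      push Not at hcon
      apply hxR
      have h1 : LinearMap.range N ≤ B.orthogonal (LinearMap.ker N) := by
        rintro _ ⟨v, rfl⟩ w hw
        change B w (N v) = 0
        rw [← h.sa, LinearMap.mem_ker.1 hw, map_zero, LinearMap.zero_apply]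
      have h3 := LinearMap.BilinForm.finrank_orthogonal hnd (LinearMap.ker N)
      have h4 := Submodule.eq_of_le_of_finrank_eq h1 (by omega)
      rw [h4]
      intro w hw
      change B w x = 0
      rw [h.sym]
      exact hcon w hw
    obtain ⟨y', hy'⟩ : ∃ y', y' = (B x y)⁻¹ • y := ⟨_, rfl⟩
    have hxy' : B x y' = 1 := by rw [hy', map_smul, smul_eq_mul, inv_mul_cancel₀ hxy]
    have hNx : N x = 0 := hx
    have hNy : N y' = 0 := by
      rw [hy', map_smul]
      rw [LinearMap.mem_ker.1 hy, smul_zero]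
    refine ⟨tA x (B x), tA y' (B y'), pairN_A hNx hNy (fun v => ?_) (fun v => ?_) (h.alt _) hxy' (h.alt _) ?_,
      iso_A h2 h, iso_A h2 h⟩
    · rw [← h.sa, hNx, map_zero, LinearMap.zero_apply]
    · rw [← h.sa, hNy, map_zero, LinearMap.zero_apply]
    · rw [h.sym]; exact hxy'

end sp

section Sp

open Matrix Cfsg.Agent.ClassicalGeometry.SympBasic

variable {F : Type*} [Field F] {m : ℕ}

/-- the isometry `1 + M` -/
noncomputable def spOf {M : Module.End F (Fin m ⊕ Fin m → F)}
    (hM : ∀ v w, sympForm m F (v + M v) (w + M w) = sympForm m F v w) : symplecticGroup (Fin m) F :=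
  ⟨LinearMap.toMatrix' (1 + M), mem_symplecticGroup_iff.2 fun u v => by
    rw [LinearMap.toMatrix'_mulVec, LinearMap.toMatrix'_mulVec]
    exact hM u v⟩

theorem pair_Sp [Finite F] (h2 : (2 : F) = 0) (hm : 3 ≤ m) {A : symplecticGroup (Fin m) F} (hA : A * A = 1) : Pair A := by
  obtain ⟨Z, hZ⟩ : ∃ Z : Module.End F (Fin m ⊕ Fin m → F), Z = toLin' (A : Matrix (Fin m ⊕ Fin m) (Fin m ⊕ Fin m) F) :=
    ⟨_, rfl⟩
  obtain ⟨N, hN⟩ : ∃ N : Module.End F (Fin m ⊕ Fin m → F), N = Z - 1 := ⟨_, rfl⟩
  have hz : Z * Z = 1 := by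
    rw [hZ, Module.End.mul_eq_comp, ← toLin'_mul]
    have : (A : Matrix (Fin m ⊕ Fin m) (Fin m ⊕ Fin m) F) * (A : Matrix (Fin m ⊕ Fin m) (Fin m ⊕ Fin m) F) = 1 :=
      congrArg Subtype.val hA
    rw [this, toLin'_one]
    rfl
  have hNN : N * N = 0 := by rw [hN]; exact sub_sq_ring (two_end h2) hz
  obtain ⟨B, hB⟩ : ∃ B : LinearMap.BilinForm F (Fin m ⊕ Fin m → F), ∀ u v, B u v = sympForm m F u v :=
    ⟨Matrix.toBilin' (Matrix.J (Fin m) F), fun u v => Matrix.toBilin'_apply' _ _ _⟩
  have hneg : ∀ a : F, -a = a := fun a => by linear_combination (-a) * h2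
  have hZiso : ∀ u v, sympForm m F (Z u) (Z v) = sympForm m F u v := fun u v => by
    rw [hZ, toLin'_apply, toLin'_apply]
    exact sympForm_mulVec A.2 u v
  have hS : SpN B N :=
    { alt := fun v => by rw [hB]; exact sympForm_self v
      sym := fun v w => by rw [hB, hB, sympForm_swap, hneg]
      nd := fun v hv => eq_zero_of_forall_sympForm_right fun w => by rw [← hB]; exact hv w
      sa := fun v w => by
        have h3 : B (Z v) w = B v (Z w) := by
          rw [hB, hB, ← hZiso v (Z w)]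
          congr 1
          have h4 := LinearMap.congr_fun hz w
          exact h4.symm
        rw [hN]
        change B (Z v - v) w = B v (Z w - w)
        rw [map_sub, map_sub, LinearMap.sub_apply, h3]
      sq := fun v => LinearMap.congr_fun hNN v }
  have hfr : 6 ≤ finrank F (Fin m ⊕ Fin m → F) := by
    rw [Module.finrank_fintype_fun_eq_card]
    simp
    omega
  obtain ⟨M, M', h, hM, hM'⟩ := exists_pairN_sp h2 hS hfr
  have key : ∀ {M : Module.End F (Fin m ⊕ Fin m → F)}, Iso' B M →
      ∀ v w, sympForm m F (v + M v) (w + M w) = sympForm m F v w := by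
    intro M hM v w
    have h3 := hM v w
    rw [← hB, ← hB]
    simp only [map_add, LinearMap.add_apply]
    linear_combination h3
  have hAN : (A : Matrix (Fin m ⊕ Fin m) (Fin m ⊕ Fin m) F) = LinearMap.toMatrix' (1 + N) := by
    rw [hN, add_sub_cancel, hZ, LinearMap.toMatrix'_toLin']
  refine ⟨spOf (key hM), spOf (key hM'), ?_, ?_, ?_, ?_, ?_, ?_⟩
  · apply Subtype.ext
    change LinearMap.toMatrix' (1 + M) * (A : Matrix (Fin m ⊕ Fin m) (Fin m ⊕ Fin m) F) =
      (A : Matrix (Fin m ⊕ Fin m) (Fin m ⊕ Fin m) F) * LinearMap.toMatrix' (1 + M)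
    rw [hAN, ← LinearMap.toMatrix'_mul, ← LinearMap.toMatrix'_mul, comm_ring' h.comm]
  · apply Subtype.ext
    change LinearMap.toMatrix' (1 + M') * (A : Matrix (Fin m ⊕ Fin m) (Fin m ⊕ Fin m) F) =
      (A : Matrix (Fin m ⊕ Fin m) (Fin m ⊕ Fin m) F) * LinearMap.toMatrix' (1 + M')
    rw [hAN, ← LinearMap.toMatrix'_mul, ← LinearMap.toMatrix'_mul, comm_ring' h.comm']
  · apply Subtype.ext
    change LinearMap.toMatrix' (1 + M) * LinearMap.toMatrix' (1 + M) = 1
    rw [← LinearMap.toMatrix'_mul, sq_ring (two_end h2) h.sq, LinearMap.toMatrix'_one]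
  · apply Subtype.ext
    change LinearMap.toMatrix' (1 + M') * LinearMap.toMatrix' (1 + M') = 1
    rw [← LinearMap.toMatrix'_mul, sq_ring (two_end h2) h.sq', LinearMap.toMatrix'_one]
  · apply Subtype.ext
    change LinearMap.toMatrix' (1 + M) * LinearMap.toMatrix' (1 + M') * LinearMap.toMatrix' (1 + M) =
      LinearMap.toMatrix' (1 + M') * LinearMap.toMatrix' (1 + M) * LinearMap.toMatrix' (1 + M')
    rw [← LinearMap.toMatrix'_mul, ← LinearMap.toMatrix'_mul, ← LinearMap.toMatrix'_mul, ← LinearMap.toMatrix'_mul,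
      braid_ring (two_end h2) h.sq h.sq' h.br h.br']
  · intro he
    have h3 : LinearMap.toMatrix' (1 + M) = LinearMap.toMatrix' (1 + M') := congrArg Subtype.val he
    have h5 : M = M' := add_left_cancel (LinearMap.toMatrix'.injective h3)
    apply h.ne
    rw [← h.br, ← h5, h.sq, zero_mul]

theorem not_isPGroup_PSp [Finite F] (h2 : (2 : F) = 0) (hm : 3 ≤ m) {z : PSp m F}
    (hz : z * z = 1) : ¬ IsPGroup 2 ↥(centralizer ({z} : Set (PSp m F))) := by
  have hfinG : Finite (symplecticGroup (Fin m) F) := inferInstance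
  obtain ⟨A, hA, rfl⟩ := exists_lift_two (G := symplecticGroup (Fin m) F) (fun s hs hss => by
    obtain ⟨r, hr⟩ := (Cfsg.Agent.LieClassical.SympCenter.mem_center_iff m s).1 hs
    have h3 : (s : Matrix (Fin m ⊕ Fin m) (Fin m ⊕ Fin m) F) * (s : Matrix (Fin m ⊕ Fin m) (Fin m ⊕ Fin m) F) = 1 :=
      congrArg Subtype.val hss
    have h4 : r * r = 1 := by
      have h5 := congrFun (congrFun h3 (Sum.inl ⟨0, by omega⟩)) (Sum.inl ⟨0, by omega⟩)
      rw [hr] at h5
      simpa using h5
    have h5 : (r - 1) * (r - 1) = 0 := by linear_combination h4 + (1 - r) * h2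
    have h6 : r = 1 := by
      rcases mul_eq_zero.1 h5 with h7 | h7 <;> exact sub_eq_zero.1 h7
    apply Subtype.ext
    rw [hr, h6, one_smul]
    rfl) hz
  exact (pair_Sp h2 hm hA).not_isPGroup

end Sp

end symp

end Cfsg.Agent.H14.Tall

namespace Cfsg.Agent.H14.Tall

section unit

open Module Subgroup Cfsg Matrix Cfsg.Agent.LieClassical.SUBasic

section SU

variable {F : Type*} [Field F] {n q : ℕ}

/-- the diagonal elements -/
def dd (i j k l : Fin n) (c : F) : Fin n → F := fun t =>
  Pi.mulSingle (M := fun _ => F) i c t * Pi.mulSingle (M := fun _ => F) j c t *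
    (Pi.mulSingle (M := fun _ => F) k c⁻¹ t * Pi.mulSingle (M := fun _ => F) l c⁻¹ t)

theorem prod_dd (i j k l : Fin n) {c : F} (hc : c ≠ 0) : ∏ t, dd i j k l c t = 1 := by
  unfold dd
  rw [Finset.prod_mul_distrib, Finset.prod_mul_distrib, Finset.prod_mul_distrib, Finset.prod_pi_mulSingle',
    Finset.prod_pi_mulSingle', Finset.prod_pi_mulSingle', Finset.prod_pi_mulSingle']
  simp only [Finset.mem_univ, if_true]
  field_simp

theorem dd_pow (i j k l : Fin n) {c : F} (hc : c ^ (q + 1) = 1) (t : Fin n) : dd i j k l c t ^ (q + 1) = 1 := by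
  have h1 : ∀ (a : Fin n), (Pi.mulSingle (M := fun _ => F) a c t) ^ (q + 1) = 1 := by
    intro a
    rw [Pi.mulSingle_apply]
    split_ifs
    · exact hc
    · exact one_pow _
  have h2 : ∀ (a : Fin n), (Pi.mulSingle (M := fun _ => F) a c⁻¹ t) ^ (q + 1) = 1 := by
    intro a
    rw [Pi.mulSingle_apply]
    split_ifs
    · rw [inv_pow, hc, inv_one]
    · exact one_pow _
  unfold dd
  rw [mul_pow, mul_pow, mul_pow, h1, h1, h2, h2, one_mul, one_mul]

theorem rep_case {ℓ : ℕ} (hn : 4 ≤ n) (h1 : 1 ≤ ℓ) (hl : 2 * ℓ ≤ n) {c : F} (hc0 : c ≠ 0) (hcc : c ≠ c⁻¹) :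
    ∃ i j k l : Fin n, (∃ s t, dd i j k l c s ≠ dd i j k l c t) ∧
      ∀ s t : Fin n, ((t.val < ℓ ∧ s.val = t.val + (n - ℓ)) ∨ (s.val < ℓ ∧ t.val = s.val + (n - ℓ)) ∨
        (s = t ∧ ℓ ≤ s.val ∧ s.val < n - ℓ)) → dd i j k l c s = dd i j k l c t := by
  rcases Nat.lt_or_ge 1 ℓ with hl2 | hl1
  · refine ⟨⟨0, by omega⟩, ⟨n - ℓ, by omega⟩, ⟨1, by omega⟩, ⟨n - ℓ + 1, by omega⟩, ⟨⟨0, by omega⟩, ⟨1, by omega⟩, ?_⟩, ?_⟩
    · unfold dd
      simp only [Pi.mulSingle_apply, Fin.mk.injEq]
      have f1 : ¬ (0 = n - ℓ) := by omega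
      have f2 : ¬ (0 = n - ℓ + 1) := by omega
      have f3 : ¬ (1 = n - ℓ) := by omega
      have f4 : ¬ (1 = n - ℓ + 1) := by omega
      have f5 : ¬ (n - ℓ = 0) := by omega
      simpa [f1, f2, f3, f4, f5] using hcc
    · intro s t h
      unfold dd
      simp only [Pi.mulSingle_apply, Fin.ext_iff]
      rcases h with ⟨h3, h4⟩ | ⟨h3, h4⟩ | ⟨h3, -⟩
      · have e1 : (s.val = 0) = False := by simp; omega
        have e2 : (s.val = 1) = False := by simp; omega
        have e3 : (t.val = n - ℓ) = False := by simp; omega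
        have e4 : (t.val = n - ℓ + 1) = False := by simp; omega
        have e5 : (s.val = n - ℓ) = (t.val = 0) := by simp only [eq_iff_iff]; omega
        have e6 : (s.val = n - ℓ + 1) = (t.val = 1) := by simp only [eq_iff_iff]; omega
        simp only [e1, e2, e3, e4, e5, e6, if_false, one_mul, mul_one]
      · have e1 : (t.val = 0) = False := by simp; omega
        have e2 : (t.val = 1) = False := by simp; omega
        have e3 : (s.val = n - ℓ) = False := by simp; omega
        have e4 : (s.val = n - ℓ + 1) = False := by simp; omega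
        have e5 : (t.val = n - ℓ) = (s.val = 0) := by simp only [eq_iff_iff]; omega
        have e6 : (t.val = n - ℓ + 1) = (s.val = 1) := by simp only [eq_iff_iff]; omega
        simp only [e1, e2, e3, e4, e5, e6, if_false, one_mul, mul_one]
      · rw [h3]
  · obtain rfl : ℓ = 1 := by omega
    -- `c` at 1 and at 1 again would be `c²`; use `c, 1` : indices 1, 1, 2, 2 give `c²`, `c⁻²`
    refine ⟨⟨1, by omega⟩, ⟨1, by omega⟩, ⟨2, by omega⟩, ⟨2, by omega⟩, ⟨⟨1, by omega⟩, ⟨0, by omega⟩, ?_⟩, ?_⟩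
    · unfold dd
      simp only [Pi.mulSingle_apply, Fin.mk.injEq]
      intro h
      apply hcc
      apply eq_inv_of_mul_eq_one_left
      simpa using h
    · intro s t h
      unfold dd
      simp only [Pi.mulSingle_apply, Fin.ext_iff]
      rcases h with ⟨h3, h4⟩ | ⟨h3, h4⟩ | ⟨h3, -⟩
      · have e1 : (s.val = 1) = False := by simp; omega
        have e2 : (s.val = 2) = False := by simp; omega
        have e3 : (t.val = 1) = False := by simp; omega
        have e4 : (t.val = 2) = False := by simp; omega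
        simp only [e1, e2, e3, e4]
      · have e1 : (s.val = 1) = False := by simp; omega
        have e2 : (s.val = 2) = False := by simp; omega
        have e3 : (t.val = 1) = False := by simp; omega
        have e4 : (t.val = 2) = False := by simp; omega
        simp only [e1, e2, e3, e4]
      · rw [h3]

theorem mat_pow (D : SU n F q) (k : ℕ) :
    (((D ^ k : SU n F q) : Matrix.SpecialLinearGroup (Fin n) F) : Matrix (Fin n) (Fin n) F) =
      ((D : Matrix.SpecialLinearGroup (Fin n) F) : Matrix (Fin n) (Fin n) F) ^ k := by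
  induction k with
  | zero => rw [pow_zero, pow_zero]; rfl
  | succ k ih => rw [pow_succ, pow_succ, ← ih]; rfl

theorem exists_commuting [Fintype F] (h2 : (2 : F) = 0) (hF : Fintype.card F = q ^ 2) (hn : 4 ≤ n) {A : SU n F q}
    (hA : A * A = 1) : ∃ D : SU n F q, D * A = A * D ∧ D ^ (q + 1) = 1 ∧ D ∉ Subgroup.center (SU n F q) := by
  have hchar : CharP F 2 := by
    have h3 : ((2 : ℕ) : F) = 0 := by exact_mod_cast h2
    exact CharTwo.of_one_ne_zero_of_two_eq_zero one_ne_zero h2
  obtain ⟨c, hc, hc1⟩ := exists_norm_one (F := F) hF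
  have hc0 : c ≠ 0 := by
    rintro rfl
    rw [zero_pow (Nat.succ_ne_zero q)] at hc
    exact zero_ne_one hc
  have hcc : c ≠ c⁻¹ := by
    intro h
    have h3 : c * c = 1 := by
      nth_rewrite 2 [h]
      exact mul_inv_cancel₀ hc0
    apply hc1
    have h5 : (c - 1) * (c - 1) = 0 := by linear_combination h3 + (1 - c) * h2
    rcases mul_eq_zero.1 h5 with h7 | h7 <;> exact sub_eq_zero.1 h7
  have hcenter : ∀ (i j k l : Fin n) (s t : Fin n), dd i j k l c s ≠ dd i j k l c t →
      suDiag q (dd i j k l c) (prod_dd i j k l hc0) (dd_pow i j k l hc) ∉ Subgroup.center (SU n F q) := by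
    intro i j k l s t hst hZ
    have h3 := diag_eq (by omega) hZ s t
    rw [coe_suDiag, diagonal_apply_eq, diagonal_apply_eq] at h3
    exact hst h3
  have hpow : ∀ i j k l : Fin n, (suDiag q (dd i j k l c) (prod_dd i j k l hc0) (dd_pow i j k l hc)) ^ (q + 1) = 1 := by
    intro i j k l
    apply Subtype.ext
    apply Subtype.ext
    rw [mat_pow, coe_suDiag, diagonal_pow]
    have h3 : dd i j k l c ^ (q + 1) = 1 := by
      funext t
      exact dd_pow i j k l hc t
    rw [h3]
    exact diagonal_one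
  by_cases hA1 : A = 1
  · obtain ⟨i, j, k, l, ⟨s, t, hst⟩, -⟩ := rep_case (ℓ := 1) (F := F) hn le_rfl (by omega) hc0 hcc
    exact ⟨_, by rw [hA1, mul_one, one_mul], hpow i j k l, hcenter i j k l s t hst⟩
  -- the rank
  obtain ⟨P, hP⟩ : ∃ P, P = ((A : Matrix.SpecialLinearGroup (Fin n) F) : Matrix (Fin n) (Fin n) F) := ⟨_, rfl⟩
  have hPP : P * P = 1 := by
    rw [hP]
    exact congrArg (fun B : SU n F q => ((B : Matrix.SpecialLinearGroup (Fin n) F) : Matrix (Fin n) (Fin n) F)) hA
  have h2m : (2 : Matrix (Fin n) (Fin n) F) = 0 := by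
    rw [← one_add_one_eq_two, ← two_smul F (1 : Matrix (Fin n) (Fin n) F), h2, zero_smul]
  have hP0 : (P - 1) * (P - 1) = 0 := sub_sq_ring h2m hPP
  have hle : 2 * (P - 1).rank ≤ n := by
    have h5 := Matrix.rank_add_rank_le_card_of_mul_eq_zero hP0
    rw [Fintype.card_fin] at h5
    omega
  have hpos : 1 ≤ (P - 1).rank := by
    rw [Nat.one_le_iff_ne_zero]
    intro h0
    apply hA1
    rw [Matrix.rank, Submodule.finrank_eq_zero, LinearMap.range_eq_bot] at h0
    have h3 : P - 1 = 0 := by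
      ext i j
      have h4 := congrFun (LinearMap.congr_fun h0 (Pi.single j 1)) i
      rw [Matrix.mulVecLin_apply, Matrix.mulVec_single_one] at h4
      exact h4
    apply Subtype.ext
    apply Subtype.ext
    rw [← hP]
    exact sub_eq_zero.1 h3
  obtain ⟨a, ham, hao, har⟩ := S2165.result (F := F) hF (by omega : 3 ≤ n) (P - 1).rank hpos hle
  obtain ⟨i, j, k, l, ⟨s, t, hst⟩, hrel⟩ := rep_case (F := F) hn hpos hle hc0 hcc
  have ha2 : a ^ 2 = 1 := by rw [← hao, pow_orderOf_eq_one]
  have hconj : IsConj a A := by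
    refine Cfsg.Agent.H80.isConj_SU h2 hF ha2 (by rw [pow_two]; exact hA) ?_ ?_
    · rw [har, ← hP]
    · rw [← hP]; exact hpos
  obtain ⟨g, hg⟩ := isConj_iff.1 hconj
  obtain ⟨D, hD⟩ : ∃ D, D = suDiag q (dd i j k l c) (prod_dd i j k l hc0) (dd_pow i j k l hc) := ⟨_, rfl⟩
  have hDa : D * a = a * D := by
    apply Subtype.ext
    apply Subtype.ext
    change ((D : Matrix.SpecialLinearGroup (Fin n) F) : Matrix (Fin n) (Fin n) F) *
      ((a : Matrix.SpecialLinearGroup (Fin n) F) : Matrix (Fin n) (Fin n) F) =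
      ((a : Matrix.SpecialLinearGroup (Fin n) F) : Matrix (Fin n) (Fin n) F) *
      ((D : Matrix.SpecialLinearGroup (Fin n) F) : Matrix (Fin n) (Fin n) F)
    rw [hD, coe_suDiag]
    ext s t
    rw [diagonal_mul, mul_diagonal]
    by_cases h0 : ((a : Matrix.SpecialLinearGroup (Fin n) F) : Matrix (Fin n) (Fin n) F) s t = 0
    · rw [h0, mul_zero, zero_mul]
    · rw [hrel s t, mul_comm]
      rw [ham, Matrix.of_apply] at h0
      by_contra hcon
      exact h0 (if_neg hcon)
  refine ⟨g * D * g⁻¹, ?_, ?_, ?_⟩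
  · rw [← hg]
    have e1 : g * D * g⁻¹ * (g * a * g⁻¹) = g * (D * a) * g⁻¹ := by group
    have e2 : g * a * g⁻¹ * (g * D * g⁻¹) = g * (a * D) * g⁻¹ := by group
    rw [e1, e2, hDa]
  · rw [conj_pow, hD, hpow, mul_one, mul_inv_cancel]
  · intro hZ
    apply hcenter i j k l s t hst
    rw [← hD]
    have h3 : D = g⁻¹ * (g * D * g⁻¹) * g⁻¹⁻¹ := by group
    rw [h3]
    exact (inferInstance : (Subgroup.center (SU n F q)).Normal).conj_mem _ hZ _

theorem not_isPGroup_PSU [Fintype F] (h2 : (2 : F) = 0) (hF : Fintype.card F = q ^ 2) (hn : 4 ≤ n) {z : PSU n F q}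
    (hz : z * z = 1) : ¬ IsPGroup 2 ↥(centralizer ({z} : Set (PSU n F q))) := by
  have hq : Odd (q + 1) := by
    have h3 : ringChar F = 2 := by
      have h3 : ((2 : ℕ) : F) = 0 := by exact_mod_cast h2
      have h4 := ringChar.dvd h3
      rcases (Nat.dvd_prime Nat.prime_two).1 h4 with h5 | h5
      · have h6 := (ringChar.spec F 1).2 (by rw [h5])
        rw [Nat.cast_one] at h6
        exact absurd h6 one_ne_zero
      · exact h5
    have h4 := FiniteField.even_card_of_char_two h3
    rw [hF] at h4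
    have h5 : Even q := by
      have h6 : Even (q ^ 2) := Nat.even_iff.2 h4
      exact (Nat.even_pow.1 h6).1
    exact h5.add_one
  obtain ⟨A, hA, rfl⟩ := exists_lift_two (G := SU n F q) (fun s hs hss => by
    obtain ⟨r, h8, h9, hr⟩ := (mem_center_SU_iff hF (by omega) s).1 hs
    have h3 : ((s : Matrix.SpecialLinearGroup (Fin n) F) : Matrix (Fin n) (Fin n) F) *
        ((s : Matrix.SpecialLinearGroup (Fin n) F) : Matrix (Fin n) (Fin n) F) = 1 :=
      congrArg (fun B : SU n F q => ((B : Matrix.SpecialLinearGroup (Fin n) F) : Matrix (Fin n) (Fin n) F)) hss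
    rw [hr, coe_suScalar, diagonal_mul_diagonal] at h3
    have h4 : r * r = 1 := by
      have h5 := congrFun (congrFun h3 ⟨0, by omega⟩) ⟨0, by omega⟩
      rwa [diagonal_apply_eq, one_apply_eq] at h5
    have h5 : (r - 1) * (r - 1) = 0 := by linear_combination h4 + (1 - r) * h2
    have h6 : r = 1 := by
      rcases mul_eq_zero.1 h5 with h7 | h7 <;> exact sub_eq_zero.1 h7
    apply Subtype.ext
    apply Subtype.ext
    rw [hr, coe_suScalar, h6]
    exact diagonal_one) hz
  obtain ⟨D, hD, hDp, hDZ⟩ := exists_commuting h2 hF hn hA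
  exact not_isPGroup_of_odd hq hD hDp hDZ

end SU

end unit

end Cfsg.Agent.H14.Tall

namespace Cfsg.Agent.H14.Tall

section orth

open QuadraticMap Module Cfsg.Agent.LieClassical.OrthCore Cfsg.Agent.LieClassical.OrthTrans
open Cfsg.Agent.ClassicalGeometry.OrthSemi Cfsg.Agent.ClassicalGeometry.OrthAut1
open Cfsg.Agent.H14.PD Cfsg.Agent.H14.DP
open Cfsg.Agent.H200.LinFix Cfsg.Agent.H200.RowOrth Cfsg.Agent.H568
open Cfsg.Agent.H160.PD (v v_mono v_eq_zero v_pos)

variable {F V : Type*} [Field F] [AddCommGroup V] [Module F V] {Q : QuadraticForm F V} [Finite V] [Finite F]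

/-- the pair from a hyperbolic pair and a nonsingular vector -/
theorem pair_orth (h2 : (2 : F) = 0) {s : ↥(E Q)} {x y w : V} (hx : Q x = 0) (hy : Q y = 0) (hxy : polar Q x y ≠ 0)
    (hxw : polar Q x w = 0) (hyw : polar Q y w = 0) (hw : Q w ≠ 0) (sx : (s : V ≃ₗ[F] V) x = x)
    (sy : (s : V ≃ₗ[F] V) y = y) (sw : (s : V ≃ₗ[F] V) w = w) : Pair s := by
  have hneg : ∀ a : F, -a = a := fun a => by linear_combination (-a) * h2
  obtain ⟨b, hb⟩ : ∃ b, b = (Q w * polar Q x y)⁻¹ := ⟨_, rfl⟩
  have hb0 : b ≠ 0 := by rw [hb]; exact inv_ne_zero (mul_ne_zero hw hxy)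
  have hb1 : Q w * polar Q x y * b = 1 := by rw [hb]; exact mul_inv_cancel₀ (mul_ne_zero hw hxy)
  have hwx : w ∈ pp Q x := hxw
  have hbw : b • w ∈ pp Q y := (pp Q y).smul_mem b hyw
  obtain ⟨t1, t2⟩ := swap_two hx hy hwx hbw (by rw [polar_comm]; exact hyw) hb1
  obtain ⟨α, hα⟩ : ∃ α, α = sg hx (Multiplicative.ofAdd ⟨w, hwx⟩) := ⟨_, rfl⟩
  obtain ⟨β, hβ⟩ : ∃ β, β = sg hy (Multiplicative.ofAdd ⟨b • w, hbw⟩) := ⟨_, rfl⟩
  rw [← hα, ← hβ] at t1 t2
  have hww : polar Q w w = 0 := by
    rw [polar_self, nsmul_eq_mul]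
    push_cast
    rw [h2, zero_mul]
  have αw : (α : V ≃ₗ[F] V) w = w := by rw [hα, sg_apply, hxw, hww]; simp
  have βw : (β : V ≃ₗ[F] V) w = w := by rw [hβ, sg_apply, hyw, polar_smul_left, hww]; simp
  have sq : ∀ {u w : V} (hu : Q u = 0) (hw : w ∈ pp Q u), sg hu (Multiplicative.ofAdd ⟨w, hw⟩) *
      sg hu (Multiplicative.ofAdd ⟨w, hw⟩) = 1 := by
    intro u w hu hw
    rw [← map_mul, ← ofAdd_add]
    have : (⟨w, hw⟩ : pp Q u) + ⟨w, hw⟩ = 0 := by
      rw [← two_smul F, h2, zero_smul]
    rw [this, ofAdd_zero, map_one]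
  have hα2 : α * α = 1 := by rw [hα]; exact sq hx hwx
  have hβ2 : β * β = 1 := by rw [hβ]; exact sq hy hbw
  have hcomm : ∀ {u w : V} (hu : Q u = 0) (hw : w ∈ pp Q u), (s : V ≃ₗ[F] V) u = u → (s : V ≃ₗ[F] V) w = w →
      sg hu (Multiplicative.ofAdd ⟨w, hw⟩) * s = s * sg hu (Multiplicative.ofAdd ⟨w, hw⟩) := by
    intro u w hu hw h3 h4
    have h5 := conj_sg hu hw h3 (by rw [h4]; exact hw)
    have h6 : sg hu (Multiplicative.ofAdd ⟨(s : V ≃ₗ[F] V) w, (by rw [h4]; exact hw : (s : V ≃ₗ[F] V) w ∈ pp Q u)⟩) =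
        sg hu (Multiplicative.ofAdd ⟨w, hw⟩) := by
      congr 2
      exact Subtype.ext h4
    rw [h6] at h5
    rw [mul_inv_eq_iff_eq_mul] at h5
    exact h5.symm
  have hne : α ≠ β := by
    intro he
    rw [← he, hα2, one_mul] at t1
    have αx : (α : V ≃ₗ[F] V) x = x := by
      rw [hα, sg_apply, polar_self_of_sing hx, polar_comm Q w x, hxw]; simp
    rw [αx] at t1
    have h3 := congrArg (polar Q x) t1
    rw [polar_self_of_sing hx, polar_smul_right, smul_eq_mul] at h3
    exact (mul_ne_zero (neg_ne_zero.2 hb0) hxy) h3.symm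
  obtain ⟨t, ht⟩ : ∃ t, t = α * β * α := ⟨_, rfl⟩
  rw [← ht] at t1 t2
  have tw : (t : V ≃ₗ[F] V) w = w := by
    rw [ht]
    change (α : V ≃ₗ[F] V) ((β : V ≃ₗ[F] V) ((α : V ≃ₗ[F] V) w)) = w
    rw [αw, βw, αw]
  have hQtx : Q ((t : V ≃ₗ[F] V) x) = 0 := by rw [mem_O.1 (E_le_O t.2), hx]
  have htw : (t : V ≃ₗ[F] V) w ∈ pp Q ((t : V ≃ₗ[F] V) x) := by
    rw [mem_pp, polar_map (E_le_O t.2)]; exact hxw
  have hconj : t * α * t⁻¹ = β := by
    rw [hα, conj_sg' hx hwx t hQtx htw, hβ]
    apply Subtype.ext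
    ext z
    rw [sg_apply, sg_apply, t1, tw, polar_smul_left, polar_smul_left, QuadraticMap.map_smul, hneg b]
    simp only [smul_eq_mul]
    module
  refine ⟨α, β, ?_, ?_, hα2, hβ2, ?_, hne⟩
  · rw [hα]; exact hcomm hx hwx sx sw
  · rw [hβ]; exact hcomm hy hbw sy (by rw [map_smul, sw])
  · have h3 : t * t = 1 := by
      rw [ht]
      have e : α * β * α * (α * β * α) = α * β * (α * α) * β * α := by group
      rw [e, hα2, mul_one]
      have e2 : α * β * β * α = α * (β * β) * α := by group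
      rw [e2, hβ2, mul_one, hα2]
    have h4 : t⁻¹ = t := inv_eq_of_mul_eq_one_left h3
    rw [h4] at hconj
    -- `t α t = β`, `t = α β α`
    have h5 : t * α = α * β := by
      rw [ht]
      have e : α * β * α * α = α * β * (α * α) := by group
      rw [e, hα2, mul_one]
    rw [h5] at hconj
    have h6 : α * β * t = β := hconj
    -- `α β α β α = β`
    have h7 : t = (α * β)⁻¹ * β := by rw [eq_inv_mul_iff_mul_eq]; exact h6
    have h8 : (α * β)⁻¹ = β * α := by
      rw [mul_inv_rev, inv_eq_of_mul_eq_one_left hα2, inv_eq_of_mul_eq_one_left hβ2]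
    rw [← ht, h7, h8]

/-- **The orthogonal groups.** -/
theorem not_isPGroup_P (hG : Good Q) (h2 : (2 : F) = 0) (hN : 8 ≤ finrank F V) (hsing : 2 ∣ Nat.card {w : V // Q w = 0})
    {z : P Q} (hz : z * z = 1) (S : Sylow 2 (P Q)) (hS : (S : Subgroup (P Q)) ≤ Subgroup.centralizer {z}) :
    ¬ IsPGroup 2 ↥(Subgroup.centralizer ({z} : Set (P Q))) := by
  have hfinE : Finite ↥(E Q) := finite_E
  have hfd : FiniteDimensional F V := inferInstance
  have hcen := center_bot_of_two hG h2
  have hF2 : Fact (Nat.Prime 2) := ⟨Nat.prime_two⟩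
  obtain ⟨s, rfl⟩ := QuotientGroup.mk_surjective z
  have hss : s * s = 1 := by
    have h3 : s * s ∈ Subgroup.center ↥(E Q) := by
      rw [← QuotientGroup.eq_one_iff]
      exact hz
    rw [hcen] at h3
    exact h3
  obtain ⟨X, hX, hXv, hXm⟩ := exists_lift_pgroup hG (p := 2) (Or.inr h2) (S : Subgroup (P Q))
  have hXv' : v 2 X = v 2 ↥(E Q) := by
    rw [hXv, ← v_P hG (p := 2) (Or.inr h2)]
    unfold v
    rw [S.card_eq_multiplicity, Nat.prime_two.factorization_pow, Finsupp.single_eq_same]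
  have hXs : ∀ g ∈ X, g * s = s * g := by
    intro g hg
    have h3 := Subgroup.mem_centralizer_singleton_iff.1 (hS (hXm g hg))
    have h4 : (QuotientGroup.mk (g * s) : P Q) = QuotientGroup.mk (s * g) := h3
    rw [QuotientGroup.eq, hcen, Subgroup.mem_bot] at h4
    exact inv_mul_eq_one.1 h4
  obtain ⟨u, hu0, hu, hXu⟩ := exists_fix_sing hsing hX
  -- `AA hu ≤ X`
  have hsup : IsPGroup 2 ↥(X ⊔ AA hu) :=
    hX.to_sup_of_normal_right' (isPGroup_AA (by exact_mod_cast h2) hu) (le_normalizer_AA hu hXu)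
  have hXeq : X = X ⊔ AA hu := by
    apply Subgroup.eq_of_le_of_card_ge le_sup_left
    rw [card_pgroup hsup, card_pgroup hX, hXv']
    exact Nat.pow_le_pow_right (by norm_num) (v_le_group _ 2)
  have hAs : ∀ (w : V) (hw : w ∈ pp Q u), sg hu (Multiplicative.ofAdd ⟨w, hw⟩) * s =
      s * sg hu (Multiplicative.ofAdd ⟨w, hw⟩) := by
    intro w hw
    apply hXs
    rw [hXeq]
    exact Subgroup.mem_sup_right ⟨_, rfl⟩
  -- `s u = u`
  have hpp := finrank_pp hG hu0
  have hsu : (s : V ≃ₗ[F] V) u = u := by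
    have h3 : ∃ c : F, (s : V ≃ₗ[F] V) u = c • u := by
      by_contra hcon
      push Not at hcon
      have h4 : pp Q u ≤ Submodule.span F {u, (s : V ≃ₗ[F] V) u} := fun w hw =>
        mem_span_of_comm hG hu hu0 hcon hw (hAs w hw)
      have h5 := Submodule.finrank_mono h4
      have h6 : finrank F (Submodule.span F {u, (s : V ≃ₗ[F] V) u}) ≤ 2 := by
        have hsu0 : (s : V ≃ₗ[F] V) u ≠ 0 := by
          rw [Ne, LinearEquiv.map_eq_zero_iff]; exact hu0
        rw [Submodule.span_insert]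
        have h7 := Submodule.finrank_add_le_finrank_add_finrank (Submodule.span F {u})
          (Submodule.span F {(s : V ≃ₗ[F] V) u})
        rw [finrank_span_singleton (K := F) hu0, finrank_span_singleton (K := F) hsu0] at h7
        exact h7
      omega
    obtain ⟨c, hc⟩ := h3
    have h4 : c * c = 1 := by
      have h5 : (s : V ≃ₗ[F] V) ((s : V ≃ₗ[F] V) u) = u := by
        change ((s * s : ↥(E Q)) : V ≃ₗ[F] V) u = u
        rw [hss]; rfl
      rw [hc, map_smul, hc, smul_smul] at h5
      have h6 : (c * c - 1) • u = 0 := by rw [sub_smul, h5, one_smul, sub_self]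
      exact sub_eq_zero.1 ((smul_eq_zero.1 h6).resolve_right hu0)
    have h5 : (c - 1) * (c - 1) = 0 := by linear_combination h4 + (1 - c) * h2
    have h6 : c = 1 := by
      rcases mul_eq_zero.1 h5 with h7 | h7 <;> exact sub_eq_zero.1 h7
    rw [hc, h6, one_smul]
  -- the fixed space
  let N : Module.End F V := ((s : V ≃ₗ[F] V) : V →ₗ[F] V) - 1
  have hN' : ∀ w, N w = (s : V ≃ₗ[F] V) w - w := fun _ => rfl
  have hNpp : ∀ w ∈ pp Q u, N w ∈ Submodule.span F {u} := by
    intro w hw
    obtain ⟨d, hd⟩ := sub_mem_of_comm hG hu hu0 (c := 1) (by rw [one_smul]; exact hsu) hw (hAs w hw)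
    rw [one_smul] at hd
    rw [hN', hd]
    exact Submodule.smul_mem _ _ (Submodule.mem_span_singleton_self _)
  have hK : finrank F V ≤ finrank F (LinearMap.ker N) + 2 := by
    have h3 := LinearMap.finrank_range_add_finrank_ker (N.domRestrict (pp Q u))
    have h4 : finrank F (LinearMap.range (N.domRestrict (pp Q u))) ≤ 1 := by
      rw [← finrank_span_singleton (K := F) hu0]
      apply Submodule.finrank_mono
      rintro _ ⟨w, rfl⟩
      exact hNpp _ w.2
    have h7 : finrank F (LinearMap.ker (N.domRestrict (pp Q u))) ≤ finrank F (LinearMap.ker N) := by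
      rw [LinearEquiv.finrank_eq (Submodule.equivMapOfInjective (pp Q u).subtype (pp Q u).subtype_injective
        (LinearMap.ker (N.domRestrict (pp Q u))))]
      apply Submodule.finrank_mono
      rintro _ ⟨w, hw, rfl⟩
      exact hw
    omega
  obtain ⟨K, hKd⟩ : ∃ K, K = LinearMap.ker N := ⟨_, rfl⟩
  rw [← hKd] at hK
  have hKs : ∀ w ∈ K, (s : V ≃ₗ[F] V) w = w := by
    intro w hw
    rw [hKd, LinearMap.mem_ker, hN'] at hw
    exact sub_eq_zero.1 hw
  have hperp := finrank_perp hG K
  obtain ⟨K', hK'⟩ : ∃ K', K' = LinearMap.BilinForm.orthogonal (polarBilin Q) K := ⟨_, rfl⟩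
  rw [← hK'] at hperp
  have mK' : ∀ w, w ∈ K' ↔ ∀ a ∈ K, polar Q a w = 0 := by
    intro w
    rw [hK']
    exact Iff.rfl
  -- a complement of `K ⊓ K'` in `K`
  obtain ⟨C, hC⟩ := Submodule.exists_isCompl (K'.comap K.subtype)
  have hCd : finrank F C + finrank F (K'.comap K.subtype) = finrank F K := by
    rw [add_comm]; exact Submodule.finrank_add_eq_of_isCompl hC
  have h8 : finrank F (K'.comap K.subtype) ≤ finrank F K' := by
    rw [LinearEquiv.finrank_eq (Submodule.equivMapOfInjective K.subtype K.subtype_injective (K'.comap K.subtype))]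
    apply Submodule.finrank_mono
    rintro _ ⟨w, hw, rfl⟩
    exact hw
  have hC3 : 3 ≤ finrank F (C.map K.subtype) := by
    rw [← LinearEquiv.finrank_eq (Submodule.equivMapOfInjective K.subtype K.subtype_injective C)]
    omega
  obtain ⟨x, hxC, hx0, hx⟩ := Cfsg.Agent.LieClassical.OrthFinite.exists_sing_mem (Q := Q) (C.map K.subtype) hC3
  obtain ⟨x', hx'C, rfl⟩ := hxC
  have hxK : (x' : V) ∈ K := x'.2
  have hxK' : (x' : V) ∉ K' := by
    intro h
    have h3 : x' ∈ C ⊓ K'.comap K.subtype := ⟨hx'C, h⟩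
    rw [inf_comm, hC.inf_eq_bot, Submodule.mem_bot] at h3
    apply hx0
    rw [h3]
    rfl
  obtain ⟨y', hy'K, hxy'⟩ : ∃ y ∈ K, polar Q (x' : V) y ≠ 0 := by
    by_contra hcon
    push Not at hcon
    apply hxK'
    rw [mK']
    intro a ha
    rw [polar_comm]
    exact hcon a ha
  obtain ⟨x, hxd⟩ : ∃ x : V, x = (x' : V) := ⟨_, rfl⟩
  have hx : Q x = 0 := by rw [hxd]; exact hx
  rw [← hxd] at hxK hxy'
  obtain ⟨y, hy⟩ : ∃ y, y = y' + (-(Q y' / polar Q x y')) • x := ⟨_, rfl⟩
  have hyK : y ∈ K := by rw [hy]; exact K.add_mem hy'K (K.smul_mem _ hxK)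
  have hxy : polar Q x y ≠ 0 := by
    rw [hy, polar_add_right, polar_smul_right, polar_self_of_sing hx, smul_zero, add_zero]
    exact hxy'
  have hQy : Q y = 0 := by
    have h3 : Q y = Q y' + Q ((-(Q y' / polar Q x y')) • x) + polar Q y' ((-(Q y' / polar Q x y')) • x) := by
      rw [hy, Cfsg.Agent.LieClassical.OrthCore.Q_add]
    rw [h3, QuadraticMap.map_smul, hx, smul_zero, add_zero, polar_smul_right, polar_comm Q y' x, smul_eq_mul]
    field_simp
    ring
  -- a nonsingular vector
  obtain ⟨w, hwK, hxw, hyw, hw⟩ : ∃ w ∈ K, polar Q x w = 0 ∧ polar Q y w = 0 ∧ Q w ≠ 0 := by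
    by_contra hcon
    push Not at hcon
    let L : Submodule F V := K ⊓ (LinearMap.ker (polarBilin Q x) ⊓ LinearMap.ker (polarBilin Q y))
    have hL : ∀ w ∈ L, w ∈ K' := by
      rintro w ⟨hwK, hwx, hwy⟩
      rw [mK']
      intro a ha
      have hwx' : polar Q x w = 0 := hwx
      have hwy' : polar Q y w = 0 := hwy
      -- `a = α x + β y + l`
      obtain ⟨l, hl⟩ : ∃ l, l = a - (polar Q y a / polar Q x y) • x - (polar Q x a / polar Q x y) • y := ⟨_, rfl⟩
      have hyx : polar Q y x = polar Q x y := by rw [polar_comm]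
      have hlK : l ∈ K := by
        rw [hl]
        exact K.sub_mem (K.sub_mem ha (K.smul_mem _ hxK)) (K.smul_mem _ hyK)
      have hxl : polar Q x l = 0 := by
        rw [hl, polar_sub_right, polar_sub_right, polar_smul_right, polar_smul_right, polar_self_of_sing hx, smul_zero,
          sub_zero, smul_eq_mul, div_mul_cancel₀ _ hxy, sub_self]
      have hyl : polar Q y l = 0 := by
        rw [hl, polar_sub_right, polar_sub_right, polar_smul_right, polar_smul_right, polar_self_of_sing hQy, smul_zero,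
          sub_zero, smul_eq_mul, hyx, div_mul_cancel₀ _ hxy, sub_self]
      have q1 := hcon l hlK hxl hyl
      have q2 := hcon w hwK hwx' hwy'
      have q3 := hcon (l + w) (K.add_mem hlK hwK) (by rw [polar_add_right, hxl, hwx', add_zero])
        (by rw [polar_add_right, hyl, hwy', add_zero])
      have h3 : polar Q l w = 0 := by
        have h4 : polar Q l w = Q (l + w) - Q l - Q w := rfl
        rw [h4, q1, q2, q3, sub_zero, sub_zero]
      have h5 : a = l + (polar Q y a / polar Q x y) • x + (polar Q x a / polar Q x y) • y := by rw [hl]; abel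
      rw [h5, polar_add_left, polar_add_left, polar_smul_left, polar_smul_left, h3, hwx', hwy', smul_zero, smul_zero,
        add_zero, add_zero]
    have h3 : finrank F L ≤ finrank F K' := Submodule.finrank_mono hL
    have h4 := Submodule.finrank_sup_add_finrank_inf_eq K (LinearMap.ker (polarBilin Q x) ⊓ LinearMap.ker (polarBilin Q y))
    have h5 := Submodule.finrank_sup_add_finrank_inf_eq (LinearMap.ker (polarBilin Q x)) (LinearMap.ker (polarBilin Q y))
    have h6 := LinearMap.finrank_range_add_finrank_ker (polarBilin Q x)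
    have h7 := LinearMap.finrank_range_add_finrank_ker (polarBilin Q y)
    have h8 := Submodule.finrank_le (LinearMap.range (polarBilin Q x))
    have h9 := Submodule.finrank_le (LinearMap.range (polarBilin Q y))
    rw [finrank_self] at h8 h9
    have h10 := Submodule.finrank_le (K ⊔ (LinearMap.ker (polarBilin Q x) ⊓ LinearMap.ker (polarBilin Q y)))
    have h11 := Submodule.finrank_le (LinearMap.ker (polarBilin Q x) ⊔ LinearMap.ker (polarBilin Q y))
    change finrank F ↥(K ⊓ (LinearMap.ker (polarBilin Q x) ⊓ LinearMap.ker (polarBilin Q y))) ≤ _ at h3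
    omega
  exact (pair_orth h2 hx hQy hxy hxw hyw hw (hKs _ hxK) (hKs _ hyK) (hKs _ hwK)).not_isPGroup

end orth

end Cfsg.Agent.H14.Tall

namespace Cfsg.Agent.H14.Tall

section fam

open QuadraticMap Module Cfsg Cfsg.Agent.LieClassical.OrthCore Cfsg.Agent.LieClassical.OrthTrans
open Cfsg.Agent.ClassicalGeometry.OrthSemi Cfsg.Agent.ClassicalGeometry.OrthAut1 Cfsg.Agent.AutOrth.Main
open Cfsg.Agent.H200.LinFix Cfsg.Agent.H568 Cfsg.Agent.LieClassical.QuadForms Cfsg.Agent.H208.Dict
open Cfsg.Agent.H200.RowOrth Cfsg.Agent.H226.Tall Cfsg.Agent.H14.PD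

theorem sq_of_twoC {K : Type*} [Group K] {z : K} (hz : TwoC z) : z * z = 1 := by
  rw [← pow_two, ← hz.1, pow_orderOf_eq_one]

/-- **`PSL_n`, `n ≥ 4`** -/
theorem rowTwo_psl {F : Type*} [Field F] [Finite F] (h2 : (2 : F) = 0) {n : ℕ} (hn : 4 ≤ n) :
    RowTwo (Matrix.ProjectiveSpecialLinearGroup (Fin n) F) :=
  fun _ hz => not_isPGroup_PSL h2 hn (sq_of_twoC hz)

/-- **`PSp_{2m}`, `m ≥ 3`** -/
theorem rowTwo_psp {F : Type*} [Field F] [Finite F] (h2 : (2 : F) = 0) {m : ℕ} (hm : 3 ≤ m) : RowTwo (PSp m F) :=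
  fun _ hz => not_isPGroup_PSp h2 hm (sq_of_twoC hz)

/-- **`PSU_n`, `n ≥ 4`** -/
theorem rowTwo_psu {F : Type*} [Field F] [Fintype F] (h2 : (2 : F) = 0) {q : ℕ} (hF : Fintype.card F = q ^ 2) {n : ℕ}
    (hn : 4 ≤ n) : RowTwo (PSU n F q) :=
  fun _ hz => not_isPGroup_PSU h2 hF hn (sq_of_twoC hz)

section P

variable {F V : Type*} [Field F] [AddCommGroup V] [Module F V] {Q : QuadraticForm F V} [Finite V] [Finite F]

theorem rowTwo_P (hG : Good Q) (h2 : (2 : F) = 0) (hN : 8 ≤ finrank F V) (hsing : 2 ∣ Nat.card {w : V // Q w = 0}) :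
    RowTwo (P Q) := by
  rintro z hz
  obtain ⟨S, hS⟩ := hz.2
  exact not_isPGroup_P hG h2 hN hsing (sq_of_twoC hz) S hS

end P

section

variable {F : Type} [Field F] [Fintype F] {m : ℕ}

theorem two_dvd_q (h2 : (2 : F) = 0) : 2 ∣ Fintype.card F := by
  have hc : CharP F 2 := CharTwo.of_one_ne_zero_of_two_eq_zero one_ne_zero h2
  obtain ⟨⟨f, hf⟩, -, hcard⟩ := FiniteField.card F 2
  rw [hcard]
  exact dvd_pow_self 2 hf.ne'

/-- **`POmega^+_{2m}`, `m ≥ 4`** -/
theorem rowTwo_oplus (h2 : (2 : F) = 0) (hm : 4 ≤ m) : RowTwo (POmega F (quadFormPlus m F)) := by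
  have hsing : 2 ∣ Nat.card {v : Fin m ⊕ Fin m → F // quadFormPlus m F v = 0} := by
    rw [S0289.result rfl m (by omega)]
    have hq := two_dvd_q h2
    exact Nat.dvd_sub (dvd_add (hq.trans (dvd_pow_self _ (by omega))) (hq.trans (dvd_pow_self _ (by omega))))
      (hq.trans (dvd_pow_self _ (by omega)))
  rw [← coe_plusForm] at hsing ⊢
  have hG : Good (plusForm m F) := good_plus (by omega)
  have hfinE : Finite ↥(E (plusForm m F)) := finite_E
  refine RowTwo.congr (rowTwo_P hG h2 ?_ hsing) (pe hG).symm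
  rw [Module.finrank_fintype_fun_eq_card]
  simp
  omega

/-- **`POmega^-_{2m}`, `m ≥ 4`** -/
theorem rowTwo_ominus (h2 : (2 : F) = 0) (hm : 4 ≤ m) {a b : F}
    (hab : ∀ z₁ z₂ : F, z₁ ^ 2 + a * z₁ * z₂ + b * z₂ ^ 2 = 0 → z₁ = 0 ∧ z₂ = 0) :
    RowTwo (POmega F (quadFormMinus (m - 1) F a b)) := by
  have hsing : 2 ∣ Nat.card {v : (Fin (m - 1) ⊕ Fin (m - 1)) ⊕ Fin 2 → F // quadFormMinus (m - 1) F a b v = 0} := by
    rw [S0290.result rfl m (by omega) a b hab]
    have hq := two_dvd_q h2
    exact Nat.dvd_sub (dvd_add (hq.trans (dvd_pow_self _ (by omega))) (hq.trans (dvd_pow_self _ (by omega))))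
      (hq.trans (dvd_pow_self _ (by omega)))
  rw [← coe_minusForm] at hsing ⊢
  have hG : Good (minusForm (m - 1) F a b) := good_minus (by omega) hab
  have hfinE : Finite ↥(E (minusForm (m - 1) F a b)) := finite_E
  refine RowTwo.congr (rowTwo_P hG h2 ?_ hsing) (pe hG).symm
  rw [Module.finrank_fintype_fun_eq_card]
  simp
  omega

end

end fam

end Cfsg.Agent.H14.Tall
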